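import Groth.Agent.EtAlgLib.Weakly
import Mathlib

/-!
# Local weakly étale algebras over valuation rings

A local ring which is weakly étale over a valuation ring is a valuation ring, and a local extension of
valuation rings of this kind is weakly unramified as soon as value groups have torsion quotient.
-/

set_option autoImplicit false
set_option linter.style.haveILetI false

universe u

open TensorProduct

namespace Groth.Agent.WEtaleVal

variable {V : Type u} [CommRing V] [IsDomain V] [ValuationRing V] {C : Type u} [CommRing C]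
  [Algebra V C] [Algebra.WeaklyEtale V C]

variable (V) in
include V in
theorem flat_ideal (J : Ideal C) : Module.Flat C J := by
  haveI : Module.Flat V J := by
    rw [Module.Flat.flat_iff_torsion_eq_bot_of_isBezout, eq_bot_iff]
    rintro ⟨x, hx⟩ ⟨⟨r, hr⟩, h⟩
    have h' : r • x = 0 := congrArg Subtype.val h
    have := (Module.Flat.flat_iff_torsion_eq_bot_of_isBezout (R := V) (M := C)).1 inferInstance
    have hx' : x ∈ Submodule.torsion V C := ⟨⟨r, hr⟩, h'⟩
    rw [this, Submodule.mem_bot] at hx'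
    exact Subtype.ext hx'
  exact Groth.Agent.EtAlgLib.flat_of_flat_lmul V (Algebra.WeaklyEtale.flat_lmul' V C) J

variable (V) in
include V in
theorem exists_eq_span [IsLocalRing C] (J : Ideal C) (hJ : J.FG) :
    ∃ d : C, J = Ideal.span {d} ∧ (d ≠ 0 → ∀ c, c * d = 0 → c = 0) := by
  haveI : Module.Finite C J := Module.Finite.of_fg hJ
  haveI := flat_ideal V J
  haveI : Module.Free C J := Module.free_of_flat_of_isLocalRing
  let b := Module.Free.chooseBasis C J
  rcases isEmpty_or_nonempty (Module.Free.ChooseBasisIndex C J) with h | ⟨⟨i⟩⟩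
  · haveI : Subsingleton J := b.repr.toEquiv.subsingleton
    refine ⟨0, ?_, fun h => (h rfl).elim⟩
    rw [Ideal.span_singleton_eq_bot.2 rfl, eq_bot_iff]
    intro x hx
    exact congrArg Subtype.val (Subsingleton.elim (⟨x, hx⟩ : J) 0)
  · have huniq : ∀ j, j = i := by
      intro j
      by_contra hne
      have h : (b j : C) • b i = (b i : C) • b j := Subtype.ext (by simp [mul_comm])
      have h2 := congrArg (fun v => b.repr v i) h
      simp [b.repr_self, hne] at h2
      exact b.ne_zero j h2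
    refine ⟨b i, le_antisymm (fun x hx => ?_) (Ideal.span_le.2 (Set.singleton_subset_iff.2 (b i).2)),
      fun _ c hc => ?_⟩
    · haveI : Unique (Module.Free.ChooseBasisIndex C J) := ⟨⟨i⟩, huniq⟩
      have h := b.sum_repr (⟨x, hx⟩ : J)
      rw [Fintype.sum_unique, show (default : Module.Free.ChooseBasisIndex C J) = i from huniq _] at h
      exact Ideal.mem_span_singleton'.2 ⟨b.repr ⟨x, hx⟩ i, congrArg Subtype.val h⟩
    · have h : c • b i = 0 := Subtype.ext hc
      simpa [b.repr_self] using congrArg (fun v => b.repr v i) h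

variable (V) in
include V in
theorem isDomain [IsLocalRing C] : IsDomain C := by
  haveI : NoZeroDivisors C := ⟨fun {a c} h => or_iff_not_imp_left.2 fun ha => by
    obtain ⟨d, hd, hd'⟩ := exists_eq_span V (Ideal.span {a}) ⟨{a}, by simp⟩
    have hd0 : d ≠ 0 := fun h0 => ha (by
      have : a ∈ Ideal.span ({d} : Set C) := hd ▸ Ideal.mem_span_singleton_self a
      rw [h0] at this
      simpa using this)
    obtain ⟨x, hx⟩ := Ideal.mem_span_singleton'.1 (show d ∈ Ideal.span {a} by
      rw [hd]; exact Ideal.mem_span_singleton_self d)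
    exact hd' hd0 c (by rw [← hx]; linear_combination x * h)⟩
  exact NoZeroDivisors.to_isDomain C

variable (V) in
include V in
theorem valuationRing [IsLocalRing C] [IsDomain C] : ValuationRing C := by
  haveI : PreValuationRing C := PreValuationRing.iff_dvd_total.2 ⟨fun a b => by
    obtain ⟨d, hd, -⟩ := exists_eq_span V (Ideal.span {a, b})
      (Submodule.fg_span (Set.toFinite ({a, b} : Set C)))
    rcases eq_or_ne d 0 with rfl | hd0
    · left
      have : b ∈ Ideal.span ({0} : Set C) := hd ▸ Ideal.subset_span (by simp)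
      rw [Ideal.span_singleton_eq_bot.2 rfl, Ideal.mem_bot] at this
      exact this ▸ dvd_zero a
    obtain ⟨a', ha⟩ := Ideal.mem_span_singleton'.1 (show a ∈ Ideal.span {d} from hd ▸ Ideal.subset_span (by simp))
    obtain ⟨b', hb⟩ := Ideal.mem_span_singleton'.1 (show b ∈ Ideal.span {d} from hd ▸ Ideal.subset_span (by simp))
    obtain ⟨x, y, hxy⟩ := Ideal.mem_span_pair.1 (show d ∈ Ideal.span {a, b} from hd ▸ Ideal.mem_span_singleton_self d)
    have h1 : x * a' + y * b' = 1 := mul_right_cancel₀ hd0 (by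
      rw [← ha, ← hb] at hxy
      linear_combination hxy)
    rcases IsLocalRing.isUnit_or_isUnit_of_add_one h1 with hu | hu
    · obtain ⟨v, hv⟩ := isUnit_of_mul_isUnit_right hu
      left
      rw [← ha, ← hb, ← hv]
      exact mul_dvd_mul_right (Units.coe_dvd) d
    · obtain ⟨v, hv⟩ := isUnit_of_mul_isUnit_right hu
      right
      rw [← ha, ← hb, ← hv]
      exact mul_dvd_mul_right (Units.coe_dvd) d⟩
  exact { }

omit [IsDomain V] [ValuationRing V] [Algebra.WeaklyEtale V C] in
theorem weaklyEtale_of_isLocalization {S T : Type u} [CommRing S] [CommRing T] [Algebra S T]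
    (M : Submonoid S) [IsLocalization M T] : Algebra.WeaklyEtale S T := by
  refine ⟨IsLocalization.flat T M, RingHom.Flat.of_bijective ⟨?_, fun t => ⟨t ⊗ₜ 1, by simp⟩⟩⟩
  have hswap : ∀ t : T, (1 : T) ⊗ₜ[S] t = t ⊗ₜ[S] (1 : T) := by
    intro t
    obtain ⟨a, s, rfl⟩ := IsLocalization.exists_mk'_eq M t
    have hu : IsUnit (algebraMap S (T ⊗[S] T) s) := by
      rw [IsScalarTower.algebraMap_apply S T (T ⊗[S] T)]
      exact (IsLocalization.map_units T s).map _
    refine hu.mul_left_cancel ?_
    have e : IsLocalization.mk' T a s * algebraMap S T (s : S) = algebraMap S T a :=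
      IsLocalization.mk'_spec T a s
    rw [← Algebra.smul_def, ← Algebra.smul_def, ← TensorProduct.tmul_smul, TensorProduct.smul_tmul',
      Algebra.smul_def, mul_comm, e, Algebra.algebraMap_eq_smul_one, TensorProduct.tmul_smul,
      TensorProduct.smul_tmul']
  have key : ∀ z : T ⊗[S] T, z = (Algebra.TensorProduct.lmul' S (S := T) z) ⊗ₜ 1 := by
    intro z
    induction z with
    | zero => simp
    | add x y hx hy => rw [map_add, TensorProduct.add_tmul, ← hx, ← hy]
    | tmul x y =>
      rw [Algebra.TensorProduct.lmul'_apply_tmul]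
      calc x ⊗ₜ[S] y = (x ⊗ₜ 1) * ((1 : T) ⊗ₜ y) := by rw [Algebra.TensorProduct.tmul_mul_tmul, mul_one, one_mul]
        _ = (x ⊗ₜ 1) * (y ⊗ₜ 1) := congrArg _ (hswap y)
        _ = _ := by rw [Algebra.TensorProduct.tmul_mul_tmul, mul_one]
  intro x y h
  rw [key x, key y]
  exact congrArg (fun t => t ⊗ₜ[S] (1 : T)) h

/-- The two pullbacks of an element, one of whose powers comes from the base up to a unit, generate
the same ideal. -/
theorem tmul_mem_span {b : C} {e : ℕ} (he : 0 < e) (a : V) (w : Cˣ)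
    (hb : b ^ e = w * algebraMap V C a) :
    b ⊗ₜ[V] (1 : C) ∈ Ideal.span {(1 : C) ⊗ₜ[V] b} := by
  let S := C ⊗[V] C
  haveI : Algebra.WeaklyEtale V S := Algebra.WeaklyEtale.trans V C S
  by_contra hne
  let J : Ideal S := (Ideal.span {(1 : C) ⊗ₜ[V] b}).colon ({b ⊗ₜ[V] (1 : C)} : Set S)
  have hJ : J ≠ ⊤ := by
    intro h
    have h1 : (1 : S) ∈ J := h ▸ Submodule.mem_top
    rw [Submodule.mem_colon_singleton, one_smul] at h1
    exact hne h1
  obtain ⟨P, hP, hJP⟩ := Ideal.exists_le_maximal J hJ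
  let SP := Localization.AtPrime P
  haveI : Algebra.WeaklyEtale S SP := weaklyEtale_of_isLocalization P.primeCompl
  haveI : Algebra.WeaklyEtale V SP := Algebra.WeaklyEtale.trans V S SP
  haveI := isDomain V (C := SP)
  haveI := valuationRing V (C := SP)
  let φ := algebraMap S SP
  set x₁ := φ (b ⊗ₜ[V] (1 : C)) with hx₁
  set x₂ := φ ((1 : C) ⊗ₜ[V] b) with hx₂
  have hw₁ : IsUnit (φ ((w : C) ⊗ₜ[V] (1 : C))) :=
    (w.isUnit.map (Algebra.TensorProduct.includeLeft : C →ₐ[V] S)).map φ
  have hw₂ : IsUnit (φ ((1 : C) ⊗ₜ[V] (w : C))) :=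
    (w.isUnit.map (Algebra.TensorProduct.includeRight : C →ₐ[V] S)).map φ
  have h1 : x₁ ^ e = φ ((w : C) ⊗ₜ[V] (1 : C)) * φ (algebraMap V S a) := by
    rw [hx₁, ← map_pow, ← map_mul, Algebra.TensorProduct.tmul_pow, one_pow, hb]
    congr 1
    rw [Algebra.TensorProduct.algebraMap_apply, Algebra.TensorProduct.tmul_mul_tmul, one_mul]
  have h2 : x₂ ^ e = φ ((1 : C) ⊗ₜ[V] (w : C)) * φ (algebraMap V S a) := by
    rw [hx₂, ← map_pow, ← map_mul, Algebra.TensorProduct.tmul_pow, one_pow, hb]
    congr 1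
    rw [Algebra.TensorProduct.algebraMap_apply', Algebra.TensorProduct.tmul_mul_tmul, one_mul]
  have hdvd : x₂ ∣ x₁ := by
    rcases ValuationRing.dvd_total x₂ x₁ with h | ⟨c, hc⟩
    · exact h
    · rcases eq_or_ne x₁ 0 with h0 | h0
      · rw [h0]; exact dvd_zero _
      · have ha : φ (algebraMap V S a) ≠ 0 := fun ha => by
          rw [ha, mul_zero] at h1
          exact h0 (eq_zero_of_pow_eq_zero h1)
        have : c ^ e * φ ((w : C) ⊗ₜ[V] (1 : C)) = φ ((1 : C) ⊗ₜ[V] (w : C)) := by
          refine mul_right_cancel₀ ha ?_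
          rw [← h2, hc, mul_pow, h1]
          ring
        have hcu : IsUnit c := (isUnit_pow_iff he.ne').1 (isUnit_of_mul_isUnit_left (this ▸ hw₂))
        rw [hc]
        exact (IsUnit.mul_right_dvd hcu).2 dvd_rfl
  obtain ⟨c, hc⟩ := hdvd
  obtain ⟨s', t, rfl⟩ := IsLocalization.exists_mk'_eq P.primeCompl c
  have : φ ((b ⊗ₜ[V] (1 : C)) * (t : S)) = φ ((1 : C) ⊗ₜ[V] b * s') := by
    rw [map_mul, map_mul, ← hx₁, ← hx₂, hc, mul_assoc, IsLocalization.mk'_spec]
  obtain ⟨r, hr⟩ := (IsLocalization.eq_iff_exists P.primeCompl SP).1 this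
  refine (P.primeCompl.mul_mem r.2 t.2 : (r : S) * (t : S) ∈ P.primeCompl) (hJP ?_)
  rw [Submodule.mem_colon_singleton, smul_eq_mul]
  refine Ideal.mem_span_singleton'.2 ⟨(r : S) * s', ?_⟩
  linear_combination -hr

/-- Weak unramifiedness. -/
theorem exists_unit_mul [IsLocalRing C] [IsLocalHom (algebraMap V C)] {b : C} (hb0 : b ≠ 0)
    {e : ℕ} (he : 0 < e) (a : V) (w : Cˣ) (hb : b ^ e = w * algebraMap V C a) :
    ∃ (c : V) (u : Cˣ), b = u * algebraMap V C c := by
  haveI := isDomain V (C := C)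
  let I := (Ideal.span {b}).comap (algebraMap V C)
  let Q := C ⧸ Ideal.span {b}
  let π : V ⧸ I →ₗ[V] Q :=
    { toFun := Ideal.quotientMap (Ideal.span {b}) (algebraMap V C) le_rfl
      map_add' := map_add _
      map_smul' := fun r x => by
        obtain ⟨x, rfl⟩ := Ideal.Quotient.mk_surjective x
        rw [RingHom.id_apply, Algebra.smul_def, Algebra.smul_def, map_mul]
        rfl }
  have hπ : Function.Injective π := Ideal.quotientMap_injective
  let q : C ⊗[V] C →ₐ[C] C ⊗[V] Q :=
    Algebra.TensorProduct.map (AlgHom.id C C) (Ideal.Quotient.mkₐ V (Ideal.span {b}))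
  have hb1 : b ⊗ₜ[V] (1 : Q) = 0 := by
    obtain ⟨z, hz⟩ := Ideal.mem_span_singleton'.1 (tmul_mem_span he a w hb)
    have h1 := congrArg q hz
    rw [map_mul, show q ((1 : C) ⊗ₜ[V] b) = 0 by
      rw [Algebra.TensorProduct.map_tmul, Ideal.Quotient.mkₐ_eq_mk,
        Ideal.Quotient.eq_zero_iff_mem.2 (Ideal.mem_span_singleton_self b), TensorProduct.tmul_zero], mul_zero] at h1
    have h2 : q (b ⊗ₜ[V] (1 : C)) = b ⊗ₜ[V] (1 : Q) := by simp [q]
    rw [← h2, ← h1]
  have hbI : b ∈ I.map (algebraMap V C) := by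
    have h0 : b ⊗ₜ[V] (1 : V ⧸ I) = 0 := by
      apply Module.Flat.lTensor_preserves_injective_linearMap (M := C) π hπ
      rw [map_zero, LinearMap.lTensor_tmul,
        show π 1 = 1 from map_one (Ideal.quotientMap (Ideal.span {b}) (algebraMap V C) le_rfl)]
      exact hb1
    have := congrArg (Algebra.TensorProduct.quotIdealMapEquivTensorQuot C I).symm h0
    rw [map_zero] at this
    rw [← Ideal.Quotient.eq_zero_iff_mem]
    refine Eq.trans ?_ this
    apply (Algebra.TensorProduct.quotIdealMapEquivTensorQuot C I).injective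
    rw [AlgEquiv.apply_symm_apply]
    rfl
  obtain ⟨c, hcI, hbc⟩ : ∃ c ∈ I, algebraMap V C c ∣ b := by
    refine Submodule.span_induction (p := fun x _ => ∃ c ∈ I, algebraMap V C c ∣ x) ?_ ?_ ?_ ?_ hbI
    · rintro _ ⟨c, hc, rfl⟩
      exact ⟨c, hc, dvd_rfl⟩
    · exact ⟨0, I.zero_mem, by simp⟩
    · rintro x y _ _ ⟨c, hc, hcx⟩ ⟨d, hd, hdy⟩
      rcases ValuationRing.dvd_total c d with h | h
      · exact ⟨c, hc, dvd_add hcx ((map_dvd _ h).trans hdy)⟩
      · exact ⟨d, hd, dvd_add ((map_dvd _ h).trans hcx) hdy⟩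
    · rintro r x _ ⟨c, hc, hcx⟩
      exact ⟨c, hc, hcx.mul_left r⟩
  have hcb : b ∣ algebraMap V C c := Ideal.mem_span_singleton.1 hcI
  obtain ⟨u, hu⟩ := associated_of_dvd_dvd hbc hcb
  exact ⟨c, u, by rw [← hu, mul_comm]⟩

/-- An algebraic element of a valuation ring has a power which comes from the base up to a unit. -/
theorem exists_pow_eq [IsLocalRing C] {b : C} (hb : b ≠ 0)
    (hinj : Function.Injective (algebraMap V C)) (P : Polynomial V) (hP : P ≠ 0)
    (hPb : Polynomial.aeval b P = 0) :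
    IsUnit b ∨ ∃ (e : ℕ) (a : V) (w : Cˣ), 0 < e ∧ b ^ e = w * algebraMap V C a := by
  classical
  haveI := isDomain V (C := C)
  haveI := valuationRing V (C := C)
  let t : ℕ → C := fun i => algebraMap V C (P.coeff i) * b ^ i
  have hsum : ∑ i ∈ P.support, t i = 0 := by
    rw [← hPb, Polynomial.aeval_def, Polynomial.eval₂_eq_sum, Polynomial.sum_def]
  have hne : ∀ i ∈ P.support, t i ≠ 0 := fun i hi =>
    mul_ne_zero (fun h => Polynomial.mem_support_iff.1 hi (hinj (h.trans (map_zero _).symm))) (pow_ne_zero _ hb)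
  obtain ⟨i, hi, hmin⟩ : ∃ i ∈ P.support, ∀ j ∈ P.support, t i ∣ t j := by
    have : ∀ s : Finset ℕ, s.Nonempty → ∃ i ∈ s, ∀ j ∈ s, t i ∣ t j := by
      intro s hs
      induction hs using Finset.Nonempty.cons_induction with
      | singleton a => exact ⟨a, Finset.mem_singleton_self a, fun j hj => by rw [Finset.mem_singleton.1 hj]⟩
      | cons a s ha hs ih =>
        obtain ⟨i, hi, h⟩ := ih
        rcases ValuationRing.dvd_total (t a) (t i) with h' | h'
        · refine ⟨a, Finset.mem_cons_self a s, fun j hj => ?_⟩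
          rcases Finset.mem_cons.1 hj with rfl | hj
          · exact dvd_rfl
          · exact h'.trans (h j hj)
        · refine ⟨i, Finset.mem_cons_of_mem hi, fun j hj => ?_⟩
          rcases Finset.mem_cons.1 hj with rfl | hj
          · exact h'
          · exact h j hj
    exact this _ (Polynomial.support_nonempty.2 hP)
  obtain ⟨j, hj, hij, hji⟩ : ∃ j ∈ P.support, i ≠ j ∧ t j ∣ t i := by
    by_contra hcon
    push Not at hcon
    choose r hr using hmin
    have hdiv : t i * (1 + ∑ j ∈ (P.support.erase i).attach, r j.1 (Finset.mem_of_mem_erase j.2)) = 0 := by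
      rw [mul_add, mul_one, Finset.mul_sum, ← hsum, ← Finset.add_sum_erase _ _ hi,
        ← Finset.sum_attach (P.support.erase i) t]
      congr 1
      exact Finset.sum_congr rfl fun j _ => (hr j.1 _).symm
    have h1 := (mul_eq_zero.1 hdiv).resolve_left (hne i hi)
    have h2 : ∑ j ∈ (P.support.erase i).attach, r j.1 (Finset.mem_of_mem_erase j.2) ∈ IsLocalRing.maximalIdeal C := by
      refine sum_mem fun j _ => (IsLocalRing.mem_maximalIdeal _).2 fun hu => ?_
      refine hcon j.1 (Finset.mem_of_mem_erase j.2) (Finset.ne_of_mem_erase j.2).symm ?_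
      rw [hr j.1 (Finset.mem_of_mem_erase j.2)]
      exact (IsUnit.mul_right_dvd hu).2 dvd_rfl
    exact (IsLocalRing.maximalIdeal.isMaximal C).ne_top ((Ideal.eq_top_iff_one _).2 (by
      have h3 := neg_mem h2
      rwa [show -∑ j ∈ (P.support.erase i).attach, r j.1 (Finset.mem_of_mem_erase j.2) = 1 from
        neg_eq_of_add_eq_zero_left h1] at h3))
  have key : ∀ i j, i < j → j ∈ P.support → Associated (t i) (t j) →
      IsUnit b ∨ ∃ (e : ℕ) (a : V) (w : Cˣ), 0 < e ∧ b ^ e = w * algebraMap V C a := by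
    intro i j hlt hj ⟨u, hu⟩
    obtain ⟨e, rfl⟩ := Nat.exists_eq_add_of_lt hlt
    have h1 : algebraMap V C (P.coeff (i + e + 1)) * b ^ (e + 1) = algebraMap V C (P.coeff i) * u := by
      refine mul_right_cancel₀ (pow_ne_zero i hb) ?_
      simp only [t] at hu
      linear_combination -hu
    have hcj : algebraMap V C (P.coeff (i + e + 1)) ≠ 0 := fun h =>
      Polynomial.mem_support_iff.1 hj (hinj (h.trans (map_zero _).symm))
    rcases ValuationRing.dvd_total (P.coeff (i + e + 1)) (P.coeff i) with ⟨d, hd⟩ | ⟨d, hd⟩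
    · refine Or.inr ⟨e + 1, d, u, Nat.succ_pos e, mul_left_cancel₀ hcj ?_⟩
      rw [h1, hd, map_mul]
      ring
    · refine Or.inl ((isUnit_pow_iff (Nat.succ_ne_zero e)).1 (isUnit_of_mul_isUnit_right (x := algebraMap V C d) ?_))
      have hci : algebraMap V C (P.coeff i) ≠ 0 := fun h => by
        rw [hd, map_mul, h, zero_mul] at hcj
        exact hcj rfl
      have : algebraMap V C d * b ^ (e + 1) = u := mul_left_cancel₀ hci (by rw [← h1, hd, map_mul, mul_assoc])
      rw [this]
      exact u.isUnit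
  have hassoc : Associated (t i) (t j) := associated_of_dvd_dvd (hmin j hj) hji
  rcases lt_or_gt_of_ne hij with h | h
  · exact key i j h hj hassoc
  · exact key j i h hi hassoc.symm

/-- Weak unramifiedness for algebraic elements. -/
theorem exists_unit_mul_of_aeval [IsLocalRing C] [IsLocalHom (algebraMap V C)] {b : C} (hb : b ≠ 0)
    (hinj : Function.Injective (algebraMap V C)) (P : Polynomial V) (hP : P ≠ 0)
    (hPb : Polynomial.aeval b P = 0) :
    ∃ (c : V) (u : Cˣ), b = u * algebraMap V C c := by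
  rcases exists_pow_eq hb hinj P hP hPb with ⟨u, rfl⟩ | ⟨e, a, w, he, h⟩
  · exact ⟨1, u, by simp⟩
  · exact exists_unit_mul hb he a w h

variable (V) in
include V in
theorem injective [Nontrivial C] : Function.Injective (algebraMap V C) := by
  refine (injective_iff_map_eq_zero _).2 fun r hr => by_contra fun h0 => ?_
  have := (Module.Flat.flat_iff_torsion_eq_bot_of_isBezout (R := V) (M := C)).1 inferInstance
  have h1 : (1 : C) ∈ Submodule.torsion V C :=
    ⟨⟨r, mem_nonZeroDivisors_of_ne_zero h0⟩, by rw [Submonoid.mk_smul, Algebra.smul_def, hr, zero_mul]⟩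
  rw [this, Submodule.mem_bot] at h1
  exact one_ne_zero h1

end Groth.Agent.WEtaleVal
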