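import Groth.Agent.WEtaleVal.Normal
import Groth.Agent.ChevAffine.Semilocal

/-!
# Olivier's theorem

A local weakly étale algebra over a strictly henselian local ring is trivial.
-/

set_option autoImplicit false
set_option linter.style.haveILetI false

universe u

open TensorProduct

namespace Groth.Agent.WEtaleVal

variable (A B : Type u) [CommRing A] [CommRing B] [Algebra A B] [HenselianLocalRing A]
  [IsLocalRing B] [IsLocalHom (algebraMap A B)]
  [Algebra.WeaklyEtale A B]

/-- The residue extension is trivial. -/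
theorem exists_sub_mem_maximalIdeal [IsSepClosed (IsLocalRing.ResidueField A)] (b : B) :
    ∃ a : A, b - algebraMap A B a ∈ IsLocalRing.maximalIdeal B := by
  let κ := IsLocalRing.ResidueField A
  let κB := IsLocalRing.ResidueField B
  let ψ : κ ⊗[A] B →ₐ[κ] κB :=
    Algebra.TensorProduct.lift (Algebra.ofId κ κB) (IsScalarTower.toAlgHom A B κB)
      (fun _ _ => Commute.all _ _)
  have hs : IsSeparable κ (IsLocalRing.residue B b) := by
    have := Groth.Agent.WEtaleField.isSeparable_map (K := κ) ψ (1 ⊗ₜ b)
    rw [show ψ ((1 : κ) ⊗ₜ[A] b) = IsLocalRing.residue B b by simp [ψ]; rfl] at this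
    exact this
  obtain ⟨x, hx⟩ := minpoly.natDegree_eq_one_iff.1 (Polynomial.natDegree_eq_of_degree_eq_some
    (IsSepClosed.degree_eq_one_of_irreducible κ (minpoly.irreducible hs.isIntegral) hs))
  obtain ⟨a, rfl⟩ := IsLocalRing.residue_surjective x
  refine ⟨a, ?_⟩
  rw [← IsLocalRing.residue_eq_zero_iff, map_sub, sub_eq_zero, ← hx]
  rfl

/-- Any two points of `B` with values in an algebraically closed field agree. -/
theorem algHom_ext_of_isAlgClosed
    (htriv : ∀ b : B, ∃ a : A, b - algebraMap A B a ∈ IsLocalRing.maximalIdeal B) {Ω : Type u} [Field Ω] [IsAlgClosed Ω] [Algebra A Ω]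
    (f g : B →ₐ[A] Ω) : f = g := by
  let A' := integralClosure A Ω
  haveI : IsLocalRing A' := Groth.Agent.ChevAffine.isLocalRing_of_henselian_of_isIntegral A A'
  haveI : IsIntegrallyClosed A' := by
    refine (isIntegrallyClosed_iff (FractionRing A')).2 fun {x} hx => ?_
    have hinj : Function.Injective (algebraMap A' Ω) := Subtype.val_injective
    let φ : FractionRing A' →ₐ[A'] Ω := IsFractionRing.liftAlgHom (g := Algebra.ofId A' Ω) hinj
    have h1 : IsIntegral A (φ x) := isIntegral_trans (R := A) (A := A') _ (hx.map φ)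
    exact ⟨⟨φ x, h1⟩, φ.toRingHom.injective (φ.commutes _)⟩
  let B' := A' ⊗[A] B
  letI : Algebra B B' := Algebra.TensorProduct.rightAlgebra
  haveI : IsScalarTower A B B' := .of_algebraMap_eq fun a => (Algebra.TensorProduct.includeRight.commutes a).symm
  haveI : Algebra.IsIntegral B B' := ⟨fun z => by
    induction z using TensorProduct.induction_on with
    | zero => exact isIntegral_zero
    | add x y hx hy => exact hx.add hy
    | tmul r b =>
      have h1 : IsIntegral B (r ⊗ₜ[A] (1 : B)) :=
        (IsIntegral.map (Algebra.TensorProduct.includeLeft : A' →ₐ[A] B')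
          (Algebra.IsIntegral.isIntegral (R := A) r)).tower_top
      have h2 : r ⊗ₜ[A] b = algebraMap B B' b * (r ⊗ₜ[A] (1 : B)) := by
        show _ = ((1 : A') ⊗ₜ[A] b) * (r ⊗ₜ[A] (1 : B))
        rw [Algebra.TensorProduct.tmul_mul_tmul, one_mul, mul_one]
      rw [h2]
      exact isIntegral_algebraMap.mul h1⟩
  let f' : B' →ₐ[A'] Ω := Algebra.TensorProduct.lift (Algebra.ofId A' Ω) f (fun _ _ => Commute.all _ _)
  let g' : B' →ₐ[A'] Ω := Algebra.TensorProduct.lift (Algebra.ofId A' Ω) g (fun _ _ => Commute.all _ _)
  haveI : Nontrivial B' := ⟨⟨0, 1, fun h => zero_ne_one (α := Ω) (by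
    rw [← map_zero f', h, map_one])⟩⟩
  -- decomposition modulo any maximal ideal
  have hB : ∀ M : Ideal B', M.IsMaximal → ∀ b ∈ IsLocalRing.maximalIdeal B, algebraMap B B' b ∈ M := by
    intro M hM b hb
    haveI := hM
    rw [← IsLocalRing.eq_maximalIdeal (Ideal.isMaximal_comap_of_isIntegral_of_isMaximal (R := B) M)] at hb
    exact hb
  have hA : ∀ M : Ideal B', M.IsMaximal → M.comap (algebraMap A' B') = IsLocalRing.maximalIdeal A' := by
    intro M hM
    refine IsLocalRing.eq_maximalIdeal ?_
    haveI := hM
    haveI hMB := Ideal.isMaximal_comap_of_isIntegral_of_isMaximal (R := B) M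
    refine Ideal.isMaximal_of_isIntegral_of_isMaximal_comap (R := A) _ ?_
    have : (M.comap (algebraMap A' B')).comap (algebraMap A A') =
        (IsLocalRing.maximalIdeal B).comap (algebraMap A B) := by
      rw [← IsLocalRing.eq_maximalIdeal hMB, Ideal.comap_comap, Ideal.comap_comap,
        ← IsScalarTower.algebraMap_eq, ← IsScalarTower.algebraMap_eq]
    rw [this, ((IsLocalRing.local_hom_TFAE (algebraMap A B)).out 0 4 :).1 ‹_›]
    exact IsLocalRing.maximalIdeal.isMaximal A
  have hdec : ∀ z : B', ∃ r : A', ∀ M : Ideal B', M.IsMaximal → z - algebraMap A' B' r ∈ M := by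
    intro z
    induction z using TensorProduct.induction_on with
    | zero => exact ⟨0, fun M _ => by simp⟩
    | add x y hx hy =>
      obtain ⟨r, hr⟩ := hx
      obtain ⟨s, hs⟩ := hy
      refine ⟨r + s, fun M hM => ?_⟩
      rw [map_add, add_sub_add_comm]
      exact add_mem (hr M hM) (hs M hM)
    | tmul r b =>
      obtain ⟨a, ha⟩ := htriv b
      refine ⟨a • r, fun M hM => ?_⟩
      have h2 : r ⊗ₜ[A] b - algebraMap A' B' (a • r) =
          (r ⊗ₜ[A] (1 : B)) * algebraMap B B' (b - algebraMap A B a) := by
        show _ = (r ⊗ₜ[A] (1 : B)) * ((1 : A') ⊗ₜ[A] (b - algebraMap A B a))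
        rw [Algebra.TensorProduct.algebraMap_apply, Algebra.algebraMap_self_apply,
          Algebra.TensorProduct.tmul_mul_tmul, one_mul, mul_one, TensorProduct.tmul_sub,
          Algebra.algebraMap_eq_smul_one, TensorProduct.tmul_smul, TensorProduct.smul_tmul']
      rw [h2]
      exact M.mul_mem_left _ (hB M hM _ ha)
  haveI : IsLocalRing B' := by
    obtain ⟨M, hM⟩ := Ideal.exists_maximal B'
    refine IsLocalRing.of_unique_max_ideal ⟨M, hM, fun M' hM' => ?_⟩
    refine hM'.eq_of_le hM.ne_top fun z hz => ?_
    obtain ⟨r, hr⟩ := hdec z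
    have h1 : r ∈ M'.comap (algebraMap A' B') := by
      rw [Ideal.mem_comap, show algebraMap A' B' r = z - (z - algebraMap A' B' r) by ring]
      exact sub_mem hz (hr M' hM')
    rw [hA M' hM', ← hA M hM] at h1
    rw [show z = (z - algebraMap A' B' r) + algebraMap A' B' r by ring]
    exact add_mem (hr M hM) h1
  obtain ⟨hdom, -⟩ := normal_of_weaklyEtale_local A' B'
  haveI := hdom
  -- every element of `B'` has a nonzero multiple in the constants
  have key : ∀ z : B', f' z = g' z := by
    intro z
    have hinj : Function.Injective (algebraMap A' B') := fun x y h => by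
      have h' := congrArg f' h
      rw [f'.commutes, f'.commutes] at h'
      exact Subtype.ext h'
    let K' := FractionRing A'
    let F' := FractionRing B'
    have hinjF : Function.Injective (algebraMap A' F') := by
      rw [IsScalarTower.algebraMap_eq A' B' F']
      exact (IsFractionRing.injective B' F').comp hinj
    letI : Algebra K' F' := (IsFractionRing.lift (g := algebraMap A' F') hinjF).toAlgebra
    haveI : IsScalarTower A' K' F' :=
      .of_algebraMap_eq fun x => (IsFractionRing.lift_algebraMap hinjF x).symm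
    let ψ : K' ⊗[A'] B' →ₐ[K'] F' :=
      Algebra.TensorProduct.lift (Algebra.ofId K' F') (IsScalarTower.toAlgHom A' B' F')
        (fun _ _ => Commute.all _ _)
    have hs := Groth.Agent.WEtaleField.isSeparable_map (K := K') ψ ((1 : K') ⊗ₜ[A'] z)
    have halg : IsAlgebraic A' (algebraMap B' F' z) := by
      refine (IsFractionRing.isAlgebraic_iff A' K' F').2 ?_
      have := hs.isIntegral.isAlgebraic
      simpa [ψ] using this
    obtain ⟨a, ha, hint⟩ := halg.exists_integral_multiple
    have hc : IsIntegral A' (a • z) := by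
      refine (isIntegral_algHom_iff (IsScalarTower.toAlgHom A' B' F') (IsFractionRing.injective B' F')).1 ?_
      simpa [Algebra.smul_def, ← IsScalarTower.algebraMap_apply] using hint
    obtain ⟨Q, hQ, hQc⟩ := hc
    have hroots : ∀ r ∈ (Q.map (algebraMap A' Ω)).roots, IsIntegral A r := fun r hr =>
      isIntegral_trans (A := A') _ ⟨Q, hQ, by
        rw [← Polynomial.eval_map]
        exact (Polynomial.mem_roots'.1 hr).2⟩
    let s := (Q.map (algebraMap A' Ω)).roots.pmap (fun r h => (⟨r, h⟩ : A')) hroots
    have hQs : Q = (s.map fun r => Polynomial.X - Polynomial.C r).prod := by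
      apply Polynomial.map_injective (algebraMap A' Ω) Subtype.val_injective
      rw [Polynomial.map_multiset_prod, Multiset.map_map]
      have h2 : s.map ((Polynomial.map (algebraMap A' Ω)) ∘ fun r => Polynomial.X - Polynomial.C r) =
          (Q.map (algebraMap A' Ω)).roots.map fun r => Polynomial.X - Polynomial.C r := by
        simp only [s, Multiset.map_pmap, Function.comp_apply, Polynomial.map_sub, Polynomial.map_X,
          Polynomial.map_C]
        exact Multiset.pmap_eq_map _ (fun r : Ω => Polynomial.X - Polynomial.C r) _ _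
      rw [h2]
      exact (IsAlgClosed.splits _).eq_prod_roots_of_monic (hQ.map _)
    obtain ⟨r, hr⟩ : ∃ r : A', a • z = algebraMap A' B' r := by
      have h1 : Polynomial.aeval (a • z) Q = 0 := hQc
      rw [hQs, map_multiset_prod, Multiset.map_map, Multiset.prod_eq_zero_iff, Multiset.mem_map] at h1
      obtain ⟨r, -, hr⟩ := h1
      exact ⟨r, sub_eq_zero.1 (by simpa using hr)⟩
    have h1 : f' (a • z) = g' (a • z) := by rw [hr, f'.commutes, g'.commutes]
    rw [map_smul, map_smul, Algebra.smul_def, Algebra.smul_def] at h1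
    exact mul_left_cancel₀ (fun h0 => ha (Subtype.ext h0)) h1
  refine AlgHom.ext fun b => ?_
  have := key ((1 : A') ⊗ₜ[A] b)
  have ef : f' ((1 : A') ⊗ₜ[A] b) = f b :=
    (Algebra.TensorProduct.lift_tmul _ _ _ _ _).trans (by rw [map_one, one_mul])
  have eg : g' ((1 : A') ⊗ₜ[A] b) = g b :=
    (Algebra.TensorProduct.lift_tmul _ _ _ _ _).trans (by rw [map_one, one_mul])
  rw [← ef, ← eg]
  exact this

/-- Olivier's theorem over a henselian local ring, for a trivial residue extension. -/
theorem bijective_of_henselian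
    (htriv : ∀ b : B, ∃ a : A, b - algebraMap A B a ∈ IsLocalRing.maximalIdeal B) :
    Function.Bijective (algebraMap A B) := by
  haveI : Module.FaithfullyFlat A B := Module.FaithfullyFlat.of_flat_of_isLocalHom
  let μ := Algebra.TensorProduct.lmul' A (S := B)
  letI : Algebra (B ⊗[A] B) B := μ.toRingHom.toAlgebra
  haveI : Module.Flat (B ⊗[A] B) B := Algebra.WeaklyEtale.flat_lmul' A B
  have hinj : Function.Injective μ := by
    refine (injective_iff_map_eq_zero μ).2 fun z hz => ?_
    obtain ⟨k, hk, hzk⟩ := Groth.Agent.EtAlgLib.exists_eq_mul_of_flat (A := B ⊗[A] B) (B := B)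
      (fun b => ⟨b ⊗ₜ 1, by simp [μ, RingHom.algebraMap_toAlgebra]⟩) (a := z) hz
    have hu : IsUnit (1 - k) := by
      by_contra hu
      obtain ⟨P, hP, hkP⟩ := exists_max_ideal_of_mem_nonunits hu
      let Ω := AlgebraicClosure P.ResidueField
      let e : B ⊗[A] B →ₐ[A] Ω := IsScalarTower.toAlgHom A (B ⊗[A] B) Ω
      have heq : e.comp Algebra.TensorProduct.includeLeft = e.comp Algebra.TensorProduct.includeRight :=
        algHom_ext_of_isAlgClosed A B htriv _ _
      have he : e = (e.comp Algebra.TensorProduct.includeLeft).comp μ := by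
        refine Algebra.TensorProduct.ext' fun x y => ?_
        show e (x ⊗ₜ[A] y) = e ((x * y) ⊗ₜ[A] (1 : B))
        have hy : e ((1 : B) ⊗ₜ[A] y) = e (y ⊗ₜ[A] (1 : B)) := (AlgHom.congr_fun heq y).symm
        rw [show x ⊗ₜ[A] y = (x ⊗ₜ[A] (1 : B)) * ((1 : B) ⊗ₜ[A] y) by simp,
          show (x * y) ⊗ₜ[A] (1 : B) = (x ⊗ₜ[A] (1 : B)) * (y ⊗ₜ[A] (1 : B)) by simp,
          map_mul, map_mul, hy]
      have h0 : e k = 0 := by
        rw [he, AlgHom.comp_apply, show μ k = 0 from hk, map_zero]
      have hkP' : k ∈ P := by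
        have h1 : algebraMap (B ⊗[A] B) P.ResidueField k = 0 := by
          apply (algebraMap P.ResidueField Ω).injective
          rw [map_zero, ← IsScalarTower.algebraMap_apply]
          exact h0
        rwa [Ideal.algebraMap_residueField_eq_zero] at h1
      exact hP.ne_top ((Ideal.eq_top_iff_one P).2 (by simpa using add_mem hkP hkP'))
    exact (IsUnit.mul_right_eq_zero hu).1 (by rw [sub_mul, one_mul, ← hzk, sub_self])
  have hb : Function.Bijective ((Algebra.linearMap A B).lTensor B) := by
    refine ⟨fun x y h => (TensorProduct.rid A B).injective ?_, fun z => ⟨μ z ⊗ₜ 1, hinj ?_⟩⟩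
    · have h' := congrArg μ h
      have e : ∀ w : B ⊗[A] A, μ ((Algebra.linearMap A B).lTensor B w) = TensorProduct.rid A B w := by
        intro w
        induction w with
        | zero => simp
        | add w₁ w₂ h₁ h₂ => simp only [map_add, h₁, h₂]
        | tmul b a => simp [μ, Algebra.smul_def, mul_comm]
      rwa [e, e] at h'
    · simp [μ]
  exact (Module.FaithfullyFlat.lTensor_bijective_iff_bijective A B (Algebra.linearMap A B)).1 hb

/-- Olivier's theorem. -/
theorem bijective_of_strictlyHenselian [IsSepClosed (IsLocalRing.ResidueField A)] :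
    Function.Bijective (algebraMap A B) :=
  bijective_of_henselian A B (exists_sub_mem_maximalIdeal A B)

end Groth.Agent.WEtaleVal
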