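import Groth.Agent.WEtaleVal.Basic
import Groth.Agent.S7127

/-!
# Localisations of étale algebras over valuation rings
-/

set_option autoImplicit false
set_option linter.style.haveILetI false

universe u

open TensorProduct

namespace Groth.Agent.WEtaleVal

/-- Elements of an étale algebra over a domain are algebraic. -/
theorem exists_aeval_eq_zero {R B : Type u} [CommRing R] [IsDomain R] [CommRing B] [Algebra R B]
    [Algebra.Etale R B] (x : B) : ∃ P : Polynomial R, P ≠ 0 ∧ Polynomial.aeval x P = 0 := by
  let K := FractionRing R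
  haveI : Module.Finite K (K ⊗[R] B) := Algebra.FormallyUnramified.finite_of_free K (K ⊗[R] B)
  obtain ⟨p, hp, hpx⟩ := Algebra.IsIntegral.isIntegral (R := K) ((1 : K) ⊗ₜ[R] x)
  refine ⟨IsLocalization.integerNormalization (nonZeroDivisors R) p, fun h => ?_, ?_⟩
  · obtain ⟨b, hb⟩ := IsLocalization.integerNormalization_map_to_map (nonZeroDivisors R) p
    rw [h, Polynomial.map_zero] at hb
    have hb' : (algebraMap R K b) • p = 0 := by rw [algebraMap_smul]; exact hb.symm
    exact IsFractionRing.to_map_ne_zero_of_mem_nonZeroDivisors (K := K) b.2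
      ((smul_eq_zero.1 hb').resolve_right hp.ne_zero)
  · let φ : B →ₐ[R] K ⊗[R] B := Algebra.TensorProduct.includeRight
    have hφ : Function.Injective φ :=
      Algebra.TensorProduct.includeRight_injective (IsFractionRing.injective R K)
    apply hφ
    rw [map_zero, ← Polynomial.aeval_algHom_apply]
    obtain ⟨b, hb⟩ := IsLocalization.integerNormalization_map_to_map (nonZeroDivisors R) p
    rw [← Polynomial.aeval_map_algebraMap K, hb, ← algebraMap_smul K (b : R) p, map_smul]
    exact (congrArg (fun t => (algebraMap R K (b : R)) • t) hpx).trans (smul_zero _)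

/-- The package for a local ring of an étale algebra over a valuation ring (or over a domain
localising to a valuation ring). -/
theorem main {R V B C : Type u} [CommRing R] [IsDomain R] [CommRing V] [IsDomain V] [ValuationRing V]
    [CommRing B] [CommRing C] [IsLocalRing C] [Algebra R V] [Algebra R B] [Algebra.Etale R B]
    [Algebra B C] [Algebra R C] [IsScalarTower R B C] [Algebra V C] [IsScalarTower R V C]
    [Algebra.WeaklyEtale R V] [IsLocalHom (algebraMap V C)]
    (hRV : Function.Injective (algebraMap R V)) (M : Submonoid B) [IsLocalization M C] :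
    IsDomain C ∧ (∀ _ : IsDomain C, ValuationRing C) ∧ Function.Injective (algebraMap V C) ∧
      ∀ b : C, b ≠ 0 → ∃ (c : V) (u : Cˣ), b = u * algebraMap V C c := by
  haveI : Algebra.WeaklyEtale B C := weaklyEtale_of_isLocalization M
  haveI : Algebra.WeaklyEtale R C := Algebra.WeaklyEtale.trans R B C
  haveI : Algebra.WeaklyEtale V C := Groth.Agent.S7127.result R V C
  haveI := isDomain V (C := C)
  refine ⟨‹_›, fun _ => valuationRing V, injective V, fun b hb => ?_⟩
  obtain ⟨x, s, rfl⟩ := IsLocalization.exists_mk'_eq M b
  have hs : IsUnit (algebraMap B C s) := IsLocalization.map_units C s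
  have e := IsLocalization.mk'_spec C x s
  have hx : algebraMap B C x ≠ 0 := by
    rw [← e]
    exact mul_ne_zero hb hs.ne_zero
  obtain ⟨P, hP, hPx⟩ := exists_aeval_eq_zero (R := R) x
  obtain ⟨c, u, hu⟩ := exists_unit_mul_of_aeval (V := V) hx (injective V) (P.map (algebraMap R V))
    ((Polynomial.map_ne_zero_iff hRV).2 hP)
    (by rw [Polynomial.aeval_map_algebraMap, Polynomial.aeval_algebraMap_apply, hPx, map_zero])
  obtain ⟨v, hv⟩ := hs
  refine ⟨c, u * v⁻¹, ?_⟩
  rw [Units.val_mul, mul_right_comm, ← hu, ← e, ← hv, Units.mul_inv_cancel_right]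

end Groth.Agent.WEtaleVal
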