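import Groth.Agent.WEtaleVal.Basic
import Groth.Agent.S7127

/-!
# Weakly étale algebras over products of valuation rings are integrally closed
-/

set_option autoImplicit false
set_option linter.style.haveILetI false

universe u

open TensorProduct Polynomial

namespace Groth.Agent.WEtaleVal

variable {ι : Type u} (V : ι → Type u) [∀ i, CommRing (V i)] [∀ i, IsDomain (V i)]
  [∀ i, ValuationRing (V i)]

omit [∀ i, ValuationRing (V i)] in
/-- The local rings of a product of valuation rings are valuation rings. -/
theorem isDomain_pi_atPrime (q : Ideal (∀ i, V i)) [q.IsPrime] :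
    IsDomain (Localization.AtPrime q) := by
  classical
  let T := Localization.AtPrime q
  haveI : NoZeroDivisors T := ⟨fun {a b} h => by
    obtain ⟨x, s, rfl⟩ := IsLocalization.exists_mk'_eq q.primeCompl a
    obtain ⟨y, t, rfl⟩ := IsLocalization.exists_mk'_eq q.primeCompl b
    rw [← IsLocalization.mk'_mul, IsLocalization.mk'_eq_zero_iff] at h
    obtain ⟨w, hw⟩ := h
    let e : ∀ i, V i := fun i => if x i = 0 then 1 else 0
    by_cases he : e ∈ q
    · right
      have hne : 1 - e ∉ q := fun h1 =>
        Ideal.IsPrime.ne_top ‹_› ((Ideal.eq_top_iff_one q).2 (by simpa using add_mem h1 he))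
      rw [IsLocalization.mk'_eq_zero_iff]
      refine ⟨w * ⟨1 - e, hne⟩, funext fun i => ?_⟩
      have hwi := congrFun hw i
      simp only [Pi.mul_apply, Pi.zero_apply, Submonoid.coe_mul, Pi.sub_apply, Pi.one_apply, e] at hwi ⊢
      split_ifs with hx
      · simp
      · simp_all [mul_left_comm]
    · left
      rw [IsLocalization.mk'_eq_zero_iff]
      refine ⟨⟨e, he⟩, funext fun i => ?_⟩
      simp only [Pi.mul_apply, Pi.zero_apply, e]
      split_ifs with hx <;> simp [*]⟩
  exact NoZeroDivisors.to_isDomain T

theorem valuationRing_pi_atPrime (q : Ideal (∀ i, V i)) [q.IsPrime]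
    [IsDomain (Localization.AtPrime q)] : ValuationRing (Localization.AtPrime q) := by
  classical
  let T := Localization.AtPrime q
  haveI : PreValuationRing T := PreValuationRing.iff_dvd_total.2 ⟨fun a b => by
    obtain ⟨x, s, rfl⟩ := IsLocalization.exists_mk'_eq q.primeCompl a
    obtain ⟨y, t, rfl⟩ := IsLocalization.exists_mk'_eq q.primeCompl b
    have key : ∀ (z : ∀ i, V i) (r : q.primeCompl),
        Associated (algebraMap (∀ i, V i) T z) (IsLocalization.mk' T z r) := fun z r => by
      obtain ⟨u, hu⟩ := IsLocalization.map_units T r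
      exact Associated.symm ⟨u, by rw [hu, IsLocalization.mk'_spec]⟩
    simp only [(key x s).symm.dvd_iff_dvd_left, (key x s).symm.dvd_iff_dvd_right,
      (key y t).symm.dvd_iff_dvd_left, (key y t).symm.dvd_iff_dvd_right]
    let e : ∀ i, V i := fun i => if x i ∣ y i then 1 else 0
    by_cases he : e ∈ q
    · have hne : 1 - e ∉ q := fun h1 =>
        Ideal.IsPrime.ne_top ‹_› ((Ideal.eq_top_iff_one q).2 (by simpa using add_mem h1 he))
      right
      refine (IsUnit.dvd_mul_left (IsLocalization.map_units T (⟨1 - e, hne⟩ : q.primeCompl))).1 ?_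
      rw [← map_mul]
      refine map_dvd _ (pi_dvd_iff.2 fun i => ?_)
      simp only [Pi.mul_apply, Pi.sub_apply, Pi.one_apply, e]
      split_ifs with h
      · simp
      · simpa using (ValuationRing.dvd_total (x i) (y i)).resolve_left h
    · left
      refine (IsUnit.dvd_mul_left (IsLocalization.map_units T (⟨e, he⟩ : q.primeCompl))).1 ?_
      rw [← map_mul]
      refine map_dvd _ (pi_dvd_iff.2 fun i => ?_)
      simp only [Pi.mul_apply, e]
      split_ifs with h <;> simp [h]⟩
  exact { }

/-- Divisibility by a nowhere vanishing denominator is detected by an integral equation. -/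
theorem dvd_of_scaleRoots {E : Type u} [CommRing E] [Algebra (∀ i, V i) E]
    [Algebra.WeaklyEtale (∀ i, V i) E] (s : ∀ i, V i) (hs : ∀ i, s i ≠ 0) (c : E) (P : E[X])
    (hP : P.Monic) (h : (P.scaleRoots (algebraMap _ E s)).eval c = 0) :
    algebraMap _ E s ∣ c := by
  let D := ∀ i, V i
  let σ := algebraMap D E s
  have hreg : IsSMulRegular E s := Module.Flat.isSMulRegular_of_nonZeroDivisors
    (mem_nonZeroDivisors_iff_right.2 fun z hz => funext fun i =>
      (mul_eq_zero.1 (congrFun hz i)).resolve_right (hs i))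
  let J : Ideal E := (Ideal.span {σ}).colon ({c} : Set E)
  suffices J = ⊤ by
    have h1 : (1 : E) ∈ J := this ▸ Submodule.mem_top
    rw [Submodule.mem_colon_singleton, one_smul] at h1
    exact Ideal.mem_span_singleton.1 h1
  by_contra hJ
  obtain ⟨m, hm, hJm⟩ := Ideal.exists_le_maximal J hJ
  let Em := Localization.AtPrime m
  haveI : Algebra.WeaklyEtale E Em := weaklyEtale_of_isLocalization m.primeCompl
  haveI : Algebra.WeaklyEtale D Em := Algebra.WeaklyEtale.trans D E Em
  let q := m.under D
  let Dq := Localization.AtPrime q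
  have hlift : ∀ y : q.primeCompl, IsUnit (algebraMap D Em y) := fun y => by
    rw [IsScalarTower.algebraMap_apply D E Em]
    exact IsLocalization.map_units Em (⟨algebraMap D E y, y.2⟩ : m.primeCompl)
  letI : Algebra Dq Em := (IsLocalization.lift hlift : Dq →+* Em).toAlgebra
  haveI : IsScalarTower D Dq Em :=
    .of_algebraMap_eq fun x => (IsLocalization.lift_eq hlift x).symm
  haveI : Algebra.WeaklyEtale D Dq := weaklyEtale_of_isLocalization q.primeCompl
  haveI : Algebra.WeaklyEtale Dq Em := Groth.Agent.S7127.result D Dq Em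
  haveI := isDomain_pi_atPrime V q
  haveI := valuationRing_pi_atPrime V q
  haveI := isDomain Dq (C := Em)
  haveI := valuationRing Dq (C := Em)
  let F := FractionRing Em
  let f : E →+* F := (algebraMap Em F).comp (algebraMap E Em)
  have hσ : algebraMap E Em σ ≠ 0 := fun h0 => by
    obtain ⟨w, hw⟩ := (IsLocalization.map_eq_zero_iff m.primeCompl Em σ).1 h0
    have : (w : E) = 0 := hreg (by
      simp only [smul_zero]
      rw [Algebra.smul_def, mul_comm]
      exact hw)
    exact w.2 (this ▸ m.zero_mem)
  have hfσ : f σ ≠ 0 := fun h0 => hσ (IsFractionRing.injective Em F (h0.trans (map_zero _).symm))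
  have hr : eval₂ f (f c / f σ) P = 0 := by
    have h1 : eval₂ f (f σ * (f c / f σ)) (P.scaleRoots σ) = 0 := by
      rw [mul_div_cancel₀ _ hfσ, eval₂_at_apply, h, map_zero]
    rw [scaleRoots_eval₂_mul] at h1
    exact (mul_eq_zero.1 h1).resolve_left (pow_ne_zero _ hfσ)
  have hint : IsIntegral Em (f c / f σ) :=
    ⟨P.map (algebraMap E Em), hP.map _, by rw [eval₂_map]; exact hr⟩
  obtain ⟨z, hz⟩ := IsIntegrallyClosed.isIntegral_iff.1 hint
  have hcz : algebraMap E Em c = algebraMap E Em σ * z := by
    apply IsFractionRing.injective Em F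
    rw [map_mul, hz]
    exact (mul_div_cancel₀ _ hfσ).symm
  obtain ⟨a, t, rfl⟩ := IsLocalization.exists_mk'_eq m.primeCompl z
  have he : algebraMap E Em (c * t) = algebraMap E Em (σ * a) := by
    rw [map_mul, map_mul, hcz, mul_assoc, IsLocalization.mk'_spec]
  obtain ⟨r, hr'⟩ := (IsLocalization.eq_iff_exists m.primeCompl Em).1 he
  refine (m.primeCompl.mul_mem r.2 t.2 : (r : E) * (t : E) ∈ m.primeCompl) (hJm ?_)
  rw [Submodule.mem_colon_singleton, smul_eq_mul]
  exact Ideal.mem_span_singleton'.2 ⟨(r : E) * a, by linear_combination -hr'⟩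

end Groth.Agent.WEtaleVal
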