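import Mathlib

/-!
# Rings all whose ideals are flat
-/

set_option autoImplicit false
set_option linter.style.haveILetI false

universe u

namespace Groth.Agent.WEtaleVal

variable {A : Type u} [CommRing A]

/-- If finitely generated ideals are flat, the local rings are valuation rings. -/
theorem atPrime_of_flat_fg (h : ∀ I : Ideal A, I.FG → Module.Flat A I) (p : Ideal A) [p.IsPrime] :
    ∃ _ : IsDomain (Localization.AtPrime p), ValuationRing (Localization.AtPrime p) := by
  classical
  let T := Localization.AtPrime p
  let φ := algebraMap A T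
  have hu : ∀ a : A, IsUnit (φ a) ∨ IsUnit (1 - φ a) := fun a =>
    IsLocalRing.isUnit_or_isUnit_one_sub_self _
  -- one generator
  have h1 : ∀ x y : A, y * x = 0 → φ x = 0 ∨ φ y = 0 := by
    intro x y hxy
    haveI := h (Ideal.span {x}) ⟨{x}, by simp⟩
    obtain ⟨k, a, z, hz, ha⟩ := Module.Flat.isTrivialRelation_of_sum_smul_eq_zero (R := A)
      (M := (Ideal.span {x} : Ideal A)) (f := ![y]) (x := ![⟨x, Ideal.mem_span_singleton_self x⟩])
      (by simp [Subtype.ext_iff, hxy])
    choose c hc using fun j => Ideal.mem_span_singleton'.1 (z j).2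
    let α := ∑ j, a 0 j * c j
    have e1 : x = α * x := by
      have := congrArg Subtype.val (hz 0)
      simp only [Matrix.cons_val_fin_one, AddSubmonoidClass.coe_finsetSum, SetLike.val_smul, smul_eq_mul] at this
      calc x = ∑ j, a 0 j * (z j : A) := this
        _ = ∑ j, a 0 j * c j * x := by simp only [mul_assoc, hc]
        _ = α * x := by rw [Finset.sum_mul]
    have e2 : y * α = 0 := by
      rw [Finset.mul_sum]
      refine Finset.sum_eq_zero fun j _ => ?_
      have := ha j
      simp only [Fin.sum_univ_one, Matrix.cons_val_fin_one] at this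
      rw [← mul_assoc, this, zero_mul]
    rcases hu α with hα | hα
    · right
      exact (IsUnit.mul_left_eq_zero hα).1 (by rw [← map_mul, e2, map_zero])
    · left
      refine (IsUnit.mul_right_eq_zero hα).1 ?_
      rw [sub_mul, one_mul, ← map_mul, ← e1, sub_self]
  haveI : NoZeroDivisors T := ⟨fun {a b} hab => by
    obtain ⟨x, s, rfl⟩ := IsLocalization.exists_mk'_eq p.primeCompl a
    obtain ⟨y, t, rfl⟩ := IsLocalization.exists_mk'_eq p.primeCompl b
    rw [← IsLocalization.mk'_mul, IsLocalization.mk'_eq_zero_iff] at hab
    obtain ⟨w, hw⟩ := hab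
    rcases h1 x ((w : A) * y) (by rw [← hw]; ring) with hx | hy
    · left
      rw [IsLocalization.mk'_eq_mul_mk'_one, hx, zero_mul]
    · right
      rw [map_mul] at hy
      rw [IsLocalization.mk'_eq_mul_mk'_one,
        (IsUnit.mul_right_eq_zero (IsLocalization.map_units T w)).1 hy, zero_mul]⟩
  haveI : IsDomain T := NoZeroDivisors.to_isDomain T
  have h2 : ∀ x y : A, φ x ∣ φ y ∨ φ y ∣ φ x := by
    intro x y
    haveI := h (Ideal.span {x, y}) (Submodule.fg_span (Set.toFinite ({x, y} : Set A)))
    obtain ⟨k, a, z, hz, ha⟩ := Module.Flat.isTrivialRelation_of_sum_smul_eq_zero (R := A)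
      (M := (Ideal.span {x, y} : Ideal A)) (f := ![y, -x])
      (x := ![⟨x, Ideal.subset_span (by simp)⟩, ⟨y, Ideal.subset_span (by simp)⟩])
      (by simp [Fin.sum_univ_two, mul_comm])
    choose c d hcd using fun j => Ideal.mem_span_pair.1 (z j).2
    let α := ∑ j, a 0 j * c j
    let β := ∑ j, a 0 j * d j
    let γ := ∑ j, a 1 j * c j
    have ha' : ∀ j, y * a 0 j = x * a 1 j := fun j => by
      have := ha j
      simp only [Fin.sum_univ_two, Matrix.cons_val_zero, Matrix.cons_val_one] at this
      linear_combination this
    have e1 : x = α * x + β * y := by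
      have := congrArg Subtype.val (hz 0)
      simp only [Matrix.cons_val_zero, AddSubmonoidClass.coe_finsetSum, SetLike.val_smul, smul_eq_mul] at this
      rw [Finset.sum_mul, Finset.sum_mul, ← Finset.sum_add_distrib]
      refine this.trans (Finset.sum_congr rfl fun j _ => ?_)
      rw [← hcd j]
      ring
    have e2 : y * α = x * γ := by
      rw [Finset.mul_sum, Finset.mul_sum]
      refine Finset.sum_congr rfl fun j _ => ?_
      rw [← mul_assoc, ha' j, mul_assoc]
    rcases hu α with hα | hα
    · left
      refine (IsUnit.dvd_mul_right hα).1 ?_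
      rw [← map_mul, e2, map_mul]
      exact dvd_mul_right _ _
    · right
      refine (IsUnit.dvd_mul_left hα).1 ?_
      rw [sub_mul, one_mul, ← map_mul, ← map_sub, show x - α * x = β * y by linear_combination e1,
        map_mul]
      exact dvd_mul_left _ _
  haveI : PreValuationRing T := PreValuationRing.iff_dvd_total.2 ⟨fun a b => by
    obtain ⟨x, s, rfl⟩ := IsLocalization.exists_mk'_eq p.primeCompl a
    obtain ⟨y, t, rfl⟩ := IsLocalization.exists_mk'_eq p.primeCompl b
    rw [IsLocalization.mk'_eq_mul_mk'_one x, IsLocalization.mk'_eq_mul_mk'_one y]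
    have : ∀ r : p.primeCompl, IsUnit (IsLocalization.mk' T (1 : A) r) := fun r =>
      IsUnit.of_mul_eq_one (φ r) (by rw [IsLocalization.mk'_spec, map_one])
    simp only [IsUnit.mul_right_dvd (this _), IsUnit.dvd_mul_right (this _)]
    exact h2 x y⟩
  exact ⟨inferInstance, { }⟩

/-- If the local rings are valuation rings, submodules of flat modules are flat. -/
theorem flat_submodule_of_atPrime
    (h : ∀ (p : Ideal A) [p.IsPrime], ∃ _ : IsDomain (Localization.AtPrime p), ValuationRing (Localization.AtPrime p))
    {M : Type u} [AddCommGroup M] [Module A M] [Module.Flat A M] (N : Submodule A M) :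
    Module.Flat A N := by
  refine Module.flat_of_localized_maximal N fun P _ => ?_
  obtain ⟨hd, hv⟩ := h P
  haveI := hd
  haveI := hv
  let S := Localization.AtPrime P
  haveI : Module.Flat A S := IsLocalization.flat S P.primeCompl
  let g : LocalizedModule P.primeCompl N →ₗ[S] LocalizedModule P.primeCompl M :=
    LocalizedModule.map P.primeCompl N.subtype
  have hg : Function.Injective g :=
    LocalizedModule.map_injective P.primeCompl N.subtype N.injective_subtype
  haveI : Module.Flat S (LocalizedModule P.primeCompl M) :=
    Module.Flat.of_isLocalizedModule S P.primeCompl (LocalizedModule.mkLinearMap P.primeCompl M)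
  haveI : Module.Flat S (LocalizedModule P.primeCompl N) := by
    rw [Module.Flat.flat_iff_torsion_eq_bot_of_isBezout, eq_bot_iff]
    rintro x ⟨r, hr⟩
    have h0 : g x ∈ Submodule.torsion S (LocalizedModule P.primeCompl M) :=
      ⟨r, by rw [Submonoid.smul_def, ← map_smul, ← Submonoid.smul_def, hr, map_zero]⟩
    rw [(Module.Flat.flat_iff_torsion_eq_bot_of_isBezout (R := S)).1 inferInstance, Submodule.mem_bot] at h0
    exact (Submodule.mem_bot _).2 (hg (h0.trans (map_zero g).symm))
  exact Module.Flat.trans A S _

end Groth.Agent.WEtaleVal
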