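import Groth.Agent.WEtaleVal.Product
import Groth.Agent.WEtaleVal.WeakDim

/-!
# Products of valuation rings
-/

set_option autoImplicit false
set_option linter.style.haveILetI false

universe u

namespace Groth.Agent.WEtaleVal

variable {J : Type u} (A : J → Type u) [∀ j, CommRing (A j)] [∀ j, IsDomain (A j)]
  [∀ j, ValuationRing (A j)]

theorem flat_ideal_pi (I : Ideal (∀ j, A j)) : Module.Flat (∀ j, A j) I :=
  flat_submodule_of_atPrime
    (fun p _ => ⟨isDomain_pi_atPrime A p,
      haveI := isDomain_pi_atPrime A p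
      valuationRing_pi_atPrime A p⟩) I

variable (K : J → Type u) [∀ j, Field (K j)] [∀ j, Algebra (A j) (K j)] [∀ j, IsFractionRing (A j) (K j)]

omit [∀ j, ValuationRing (A j)] in
theorem isLocalization_pi {L : Type u} [CommRing L] [Algebra (∀ j, A j) L]
    (e : L ≃+* ∀ j, K j) (he : ∀ (d : ∀ j, A j) j, e (algebraMap _ L d) j = algebraMap (A j) (K j) (d j)) :
    IsLocalization (nonZeroDivisors (∀ j, A j)) L := by
  classical
  have hnz : ∀ d : nonZeroDivisors (∀ j, A j), ∀ j, (d : ∀ j, A j) j ≠ 0 := fun d j h => by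
    have h1 : (Pi.single j (1 : A j) : ∀ j, A j) * d = 0 := funext fun i => by
      rcases eq_or_ne i j with rfl | hi <;> simp [*]
    exact one_ne_zero ((Pi.single_eq_same j (1 : A j)).symm.trans
      (congrFun ((mem_nonZeroDivisors_iff_right.1 d.2) _ h1) j))
  refine ⟨fun d => ?_, fun z => ?_, fun {x y} hxy => ⟨1, ?_⟩⟩
  · refine (MulEquiv.isUnit_map e).1 (Pi.isUnit_iff.2 fun j => ?_)
    rw [he]
    exact IsUnit.mk0 _ fun h0 => hnz d j (IsFractionRing.injective (A j) (K j) (h0.trans (map_zero _).symm))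
  · choose a s hs using fun j => IsLocalization.exists_mk'_eq (nonZeroDivisors (A j)) (e z j)
    refine ⟨⟨a, ⟨fun j => (s j : A j), mem_nonZeroDivisors_iff_right.2 fun w hw => funext fun j =>
      (mul_eq_zero.1 (congrFun hw j)).resolve_right (nonZeroDivisors.coe_ne_zero (s j))⟩⟩, e.injective ?_⟩
    rw [map_mul]
    funext j
    rw [Pi.mul_apply, he, he, ← hs j]
    exact IsLocalization.mk'_spec (K j) (a j) (s j)
  · congr 1
    funext j
    exact IsFractionRing.injective (A j) (K j) (by rw [← he x, ← he y, hxy])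

end Groth.Agent.WEtaleVal
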