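import Groth.Agent.S1967
import Groth.Agent.WEtaleField.Basic

/-!
# Local weakly étale algebras over normal domains are normal domains
-/

set_option autoImplicit false
set_option linter.style.haveILetI false

universe u

open TensorProduct

namespace Groth.Agent.WEtaleVal

theorem normal_of_weaklyEtale_local (A B : Type u) [CommRing A] [IsDomain A] [IsIntegrallyClosed A]
    [CommRing B] [IsLocalRing B] [Algebra A B] [Algebra.WeaklyEtale A B] :
    IsDomain B ∧ IsIntegrallyClosed B := by
  let K := FractionRing A
  let T := B ⊗[A] K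
  obtain ⟨hinj, hcl⟩ := isIntegrallyClosedIn_iff.1 (Groth.Agent.S1967.result A K B)
  haveI : Nontrivial T := hinj.nontrivial
  let c : (K ⊗[A] B) ≃ₐ[A] T := Algebra.TensorProduct.comm A K B
  haveI : Nontrivial (K ⊗[A] B) := c.toEquiv.nontrivial
  have hf : IsField T := by
    refine MulEquiv.isField (Groth.Agent.WEtaleField.isField_of_idempotents K (B := K ⊗[A] B) fun e he => ?_)
      c.symm.toMulEquiv
    have he' : IsIdempotentElem (c e) := he.map c.toRingEquiv.toRingHom
    have hint : IsIntegral B (c e) :=
      ⟨Polynomial.X ^ 2 - Polynomial.X, Polynomial.monic_X_pow_sub (by simp [Polynomial.degree_X]),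
        by rw [Polynomial.eval₂_sub, Polynomial.eval₂_X_pow, Polynomial.eval₂_X, pow_two, he'.eq, sub_self]⟩
    obtain ⟨b, hb⟩ := hcl hint
    have hb' : IsIdempotentElem b := hinj (by rw [map_mul, hb, he'.eq])
    rcases IsLocalRing.isUnit_or_isUnit_one_sub_self b with h | h
    · right
      have : b = 1 := (IsIdempotentElem.iff_eq_one_of_isUnit h).1 hb'
      exact c.injective (by rw [← hb, this, map_one, map_one])
    · left
      have : 1 - b = 1 := (IsIdempotentElem.iff_eq_one_of_isUnit h).1 hb'.one_sub
      exact c.injective (by rw [← hb, show b = 0 by linear_combination -this, map_zero, map_zero])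
  have hsurj : ∀ t : T, ∃ (b : B) (s : A), s ≠ 0 ∧ t * algebraMap B T (algebraMap A B s) = algebraMap B T b := by
    intro t
    induction t using TensorProduct.induction_on with
    | zero => exact ⟨0, 1, one_ne_zero, by simp⟩
    | tmul b k =>
      obtain ⟨a, s, hs, rfl⟩ := IsFractionRing.div_surjective A k
      refine ⟨b * algebraMap A B a, s, nonZeroDivisors.ne_zero hs, ?_⟩
      have h0 : algebraMap A K s ≠ 0 := IsFractionRing.to_map_ne_zero_of_mem_nonZeroDivisors hs
      rw [← IsScalarTower.algebraMap_apply A B T, Algebra.TensorProduct.algebraMap_apply' s,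
        Algebra.TensorProduct.algebraMap_apply, Algebra.algebraMap_self_apply,
        Algebra.TensorProduct.tmul_mul_tmul, mul_one, div_mul_cancel₀ _ h0,
        Algebra.algebraMap_eq_smul_one a, Algebra.algebraMap_eq_smul_one a, mul_smul_comm, mul_one,
        TensorProduct.tmul_smul, TensorProduct.smul_tmul']
    | add t₁ t₂ h₁ h₂ =>
      obtain ⟨b₁, s₁, hs₁, e₁⟩ := h₁
      obtain ⟨b₂, s₂, hs₂, e₂⟩ := h₂
      refine ⟨b₁ * algebraMap A B s₂ + b₂ * algebraMap A B s₁, s₁ * s₂, mul_ne_zero hs₁ hs₂, ?_⟩
      rw [map_add, map_mul, map_mul, map_mul, map_mul, ← e₁, ← e₂]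
      ring
  letI := hf.toField
  haveI : IsDomain B := Function.Injective.isDomain (algebraMap B T) hinj
  haveI : FaithfulSMul B T := (faithfulSMul_iff_algebraMap_injective B T).2 hinj
  haveI : IsFractionRing B T := IsFractionRing.of_field B T fun t => by
    obtain ⟨b, s, hs, e⟩ := hsurj t
    refine ⟨b, algebraMap A B s, ?_⟩
    have hsT : algebraMap B T (algebraMap A B s) ≠ 0 := by
      rw [← IsScalarTower.algebraMap_apply A B T, Algebra.TensorProduct.algebraMap_apply' s]
      have hu : IsUnit (algebraMap A K s) := IsUnit.mk0 _ fun h0 => hs (IsFractionRing.injective A K (h0.trans (map_zero _).symm))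
      exact (hu.map (Algebra.TensorProduct.includeRight : K →ₐ[A] T)).ne_zero
    rw [eq_comm, div_eq_iff hsT]
    exact e.symm
  exact ⟨inferInstance, (isIntegrallyClosed_iff_isIntegrallyClosedIn T).2 (isIntegrallyClosedIn_iff.2 ⟨hinj, hcl⟩)⟩

end Groth.Agent.WEtaleVal
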